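import Cfsg.Agent.H458.Ab3_mg_m3
import Cfsg.Agent.H494.PSURow
import Cfsg.Agent.H458.FieldKill
import Cfsg.Agent.ClassicalGeometry.SplitTorus
import Cfsg.Agent.H680.CritGExc
import Cfsg.Agent.H341.ThreeList_m3
import Cfsg.Agent.ONan.PairCoord
import Cfsg.Agent.FastGrp
import Cfsg.Agent.Prune
set_option linter.all false

section
prune_inst 0x7f00000000000000000000000000000000000000000000000000000000000000000000000000000000000000000000000000000000000000000000000000000000000000000000000000000000000000003fffffffffffffffffffffffffffbeffbdffffffff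

-- part: H325/RowPSU
section
set_option linter.all false
open scoped Cfsg.Agent.FastGrp

/-!
# `PSU_n(q)` with Sylow 3-subgroup of order `3 ^ 10`

`|PSU_n(q)|_3 = 3 ^ 10` and `3 ∤ q` force an element of order 81 or an abelian 3-subgroup of order `3 ^ 6`
(`row_psu`).
-/

set_option autoImplicit false

namespace Cfsg.Agent.H325.RowPSU

open Subgroup Cfsg Cfsg.Agent.H777.Elim Matrix Cfsg.Agent.H494.PSURow
open Cfsg.Agent.LieClassical.SUBasic Cfsg.Agent.LieClassical.HermBasic Cfsg.Agent.H749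

/-- abelian `3`-subgroups of order at least `3 ^ N` -/
def AbP (N : ℕ) (K : Type*) [Group K] : Prop :=
  ∃ A : Subgroup K, IsPGroup 3 A ∧ (∀ x ∈ A, ∀ y ∈ A, x * y = y * x) ∧ 3 ^ N ≤ Nat.card A

theorem AbP.mono {N M : ℕ} {K : Type*} [Group K] (h : AbP N K) (hM : M ≤ N) : AbP M K := by
  obtain ⟨A, h1, h2, h3⟩ := h
  exact ⟨A, h1, h2, (Nat.pow_le_pow_right (by norm_num) hM).trans h3⟩

theorem AbP.zero {K : Type*} [Group K] : AbP 0 K := by
  refine ⟨⊥, IsPGroup.of_bot, ?_, ?_⟩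
  · intro x hx y hy
    rw [mem_bot.1 hx, mem_bot.1 hy]
  · rw [pow_zero, card_bot]

/-- transport along a homomorphism injective on 3-elements -/
theorem AbP.of_hom {N : ℕ} {K L : Type*} [Group K] [Group L] (h : AbP N L) (f : L →* K)
    (hf : ∀ x, (∃ k, x ^ 3 ^ k = 1) → f x = 1 → x = 1) : AbP N K := by
  obtain ⟨A, hA, hab, hc⟩ := h
  refine ⟨A.map f, hA.map _, ?_, ?_⟩
  · rintro _ ⟨x, hx, rfl⟩ _ ⟨y, hy, rfl⟩
    rw [← map_mul, ← map_mul, hab x hx y hy]
  · have hinj : Function.Injective (f.comp A.subtype) := by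
      rw [injective_iff_map_eq_one]
      intro x hx
      obtain ⟨k, hk⟩ := hA x
      exact Subtype.ext (hf x ⟨k, by rw [← Subgroup.coe_pow, hk]; rfl⟩ hx)
    have h2 : Nat.card A = Nat.card (f.comp A.subtype).range :=
      Nat.card_congr (MonoidHom.ofInjective hinj).toEquiv
    have h3 : (f.comp A.subtype).range = A.map f := by
      rw [MonoidHom.range_comp, Subgroup.range_subtype]
    rw [h2, h3] at hc
    exact hc

theorem AbP.prod {N M : ℕ} {K L : Type*} [Group K] [Group L] (h : AbP N K) (h' : AbP M L) :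
    AbP (N + M) (K × L) := by
  obtain ⟨A, hA, hab, hc⟩ := h
  obtain ⟨B, hB, hab', hc'⟩ := h'
  refine ⟨A.prod B, ?_, ?_, ?_⟩
  · intro x
    obtain ⟨k, hk⟩ := hA ⟨x.1.1, x.2.1⟩
    obtain ⟨l, hl⟩ := hB ⟨x.1.2, x.2.2⟩
    refine ⟨k + l, Subtype.ext (Prod.ext ?_ ?_)⟩
    · have h1 : (x.1.1) ^ 3 ^ k = 1 := congrArg Subtype.val hk
      change (x.1.1) ^ 3 ^ (k + l) = 1
      rw [pow_add, pow_mul, h1, one_pow]
    · have h1 : (x.1.2) ^ 3 ^ l = 1 := congrArg Subtype.val hl
      change (x.1.2) ^ 3 ^ (k + l) = 1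
      rw [add_comm, pow_add, pow_mul, h1, one_pow]
  · intro x hx y hy
    exact Prod.ext (hab _ hx.1 _ hy.1) (hab' _ hx.2 _ hy.2)
  · rw [Nat.card_congr (A.prodEquiv B).toEquiv, Nat.card_prod, pow_add]
    exact Nat.mul_le_mul hc hc'

theorem AbP.of_orderOf {N : ℕ} {K : Type*} [Group K] {x : K} (h : orderOf x = 3 ^ N) : AbP N K := by
  refine ⟨zpowers x, ?_, ?_, ?_⟩
  · exact IsPGroup.of_card (n := N) (by rw [Nat.card_zpowers, h])
  · rintro _ ⟨i, rfl⟩ _ ⟨j, rfl⟩
    exact (Commute.refl x).zpow_zpow i j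
  · rw [Nat.card_zpowers, h]

/-- units of given order -/
theorem exists_unit {F : Type*} [Field F] [Fintype F] {r : ℕ} (hr : r ∣ Fintype.card F - 1) :
    ∃ t : Fˣ, orderOf t = r := by
  classical
  have h1 : r ∣ Nat.card Fˣ := by
    rw [Nat.card_eq_fintype_card, Fintype.card_units]
    exact hr
  obtain ⟨t, ht⟩ := (IsCyclic.exists_ofOrder_eq_natCard (α := Fˣ))
  have hcard : 0 < Nat.card Fˣ := Nat.card_pos
  obtain ⟨d, hd⟩ := h1
  have hr0 : r ≠ 0 := by rintro rfl; rw [zero_mul] at hd; omega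
  have hd0 : d ≠ 0 := by rintro rfl; rw [mul_zero] at hd; omega
  refine ⟨t ^ d, ?_⟩
  rw [orderOf_pow_of_dvd hd0 (by rw [ht, hd]; exact Dvd.intro_left r rfl), ht, hd,
      Nat.mul_div_cancel _ (Nat.pos_of_ne_zero hd0)]

theorem dgHom_injective (F : Type*) [Field F] :
    Function.Injective (Cfsg.Agent.ClassicalGeometry.SplitTorus.dgHom F) := by
  intro s t h
  apply Units.ext
  exact congrArg (fun A : SpecialLinearGroup (Fin 2) F => A 0 0) h

variable {F : Type*} [Field F] [Fintype F] {q : ℕ}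

/-- elements of `SU_2(q)` of order dividing `q + 1` -/
theorem elt_plus (hF : Fintype.card F = q ^ 2) {r : ℕ} (hr : r ∣ q + 1) : ∃ x : SU 2 F q, orderOf x = r := by
  have h1 : r ∣ Fintype.card F - 1 := by
    rw [hF]
    have : q ^ 2 - 1 = (q + 1) * (q - 1) := by
      have := Nat.sq_sub_sq q 1
      simpa using this
    rw [this]
    exact hr.mul_right _
  obtain ⟨s, hord⟩ := exists_unit h1
  have hs : s * s ^ q = 1 := by
    rw [← pow_succ', ← orderOf_dvd_iff_pow_eq_one, hord]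
    exact hr
  have hmem : Cfsg.Agent.ClassicalGeometry.SplitTorus.dgHom F s ∈ SU 2 F q := by
    rw [Cfsg.Agent.S0281.mem_SU_two_iff hF]
    constructor
    · change (s : F) ^ q = ((s⁻¹ : Fˣ) : F)
      rw [← Units.val_pow_eq_pow_val, eq_inv_of_mul_eq_one_right hs]
    · change (0 : F) ^ q = -0
      rw [zero_pow_q hF, neg_zero]
  refine ⟨⟨_, hmem⟩, ?_⟩
  rw [← Subgroup.orderOf_coe, ← hord]
  exact orderOf_injective _ (dgHom_injective F) s

/-- elements of `SU_2(q)` of order dividing `q - 1` -/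
theorem elt_minus (hF : Fintype.card F = q ^ 2) {r : ℕ} (hr : r ∣ q - 1) : ∃ x : SU 2 F q, orderOf x = r := by
  obtain ⟨K, _, _, hK⟩ := Cfsg.Agent.S0280.exists_field hF
  obtain ⟨e⟩ := Cfsg.Agent.S0281.result hF hK
  obtain ⟨s, hord⟩ := exists_unit (F := K) (hK.symm ▸ hr)
  refine ⟨e.symm (Cfsg.Agent.ClassicalGeometry.SplitTorus.dgHom K s), ?_⟩
  rw [MulEquiv.orderOf_eq, ← hord]
  exact orderOf_injective _ (dgHom_injective K) s

/-- an element of order 81 of `SU_2(q)` gives one in `PSU_n(q)` -/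
theorem big_of_81 (hF : Fintype.card F = q ^ 2) {n : ℕ} (hn : 3 ≤ n) {x : SU 2 F q} (hx : orderOf x = 81) :
    Big (PSU n F q) := by
  obtain ⟨m, rfl⟩ := Nat.exists_eq_add_of_le (show 2 ≤ n by omega)
  have hm : 0 < m := by omega
  let f : SU 2 F q →* PSU (2 + m) F q :=
    (QuotientGroup.mk' (center (SU (2 + m) F q))).comp ((blk 2 m F q).comp (MonoidHom.inl _ _))
  refine Or.inr ⟨f x, ?_⟩
  rw [← hx]
  refine orderOf_injective f ?_ x
  rw [injective_iff_map_eq_one]
  intro y hy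
  exact eq_one_left hF hn hm ((QuotientGroup.eq_one_iff _).1 hy)

omit [Fintype F] in
/-- products of the `SU_2(q)` -/
theorem abP_even {a : ℕ} (h : AbP a (SU 2 F q)) (m : ℕ) : AbP (m * a) (SU (2 * m) F q) := by
  induction m with
  | zero => rw [zero_mul]; exact AbP.zero
  | succ m ih =>
    rw [Nat.succ_mul, Nat.mul_succ]
    exact (ih.prod h).of_hom (blk (2 * m) 2 F q) fun x _ hx => (injective_iff_map_eq_one _).1 (blk_injective _ _ _) x hx

omit [Fintype F] in
theorem abP_left {a k : ℕ} (h : AbP a (SU k F q)) (m : ℕ) : AbP a (SU (k + m) F q) := by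
  have := h.prod (AbP.zero (K := SU m F q))
  exact this.of_hom (blk k m F q) fun x _ hx => (injective_iff_map_eq_one _).1 (blk_injective _ _ _) x hx

/-- the matrix of an element -/
def mtx (n : ℕ) (F : Type*) [Field F] (q : ℕ) : SU n F q →* Matrix (Fin n) (Fin n) F :=
  (SpecialLinearGroup.coeMonoidHom).comp (SU n F q).subtype

omit [Fintype F] in
theorem mtx_injective (n q : ℕ) : Function.Injective (mtx n F q) :=
  (SpecialLinearGroup.coeMonoidHom_injective).comp Subtype.val_injective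

/-- into `PSU_n(q)` when the centre has no 3-elements -/
theorem abP_psu (hF : Fintype.card F = q ^ 2) {n : ℕ} (hn : 3 ≤ n) {a : ℕ} (h : AbP a (SU n F q))
    (hc : ¬ 3 ∣ Nat.gcd n (q + 1)) : AbP a (PSU n F q) := by
  refine h.of_hom (QuotientGroup.mk' (center (SU n F q))) ?_
  rintro x ⟨k, hk⟩ hx
  obtain ⟨c, hcn, hcq, rfl⟩ := (mem_center_SU_iff hF hn x).1 ((QuotientGroup.eq_one_iff _).1 hx)
  have hn0 : 0 < n := by omega
  have h1 : c ^ 3 ^ k = 1 := by
    have h4 := congrArg (mtx n F q) hk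
    rw [map_pow, map_one] at h4
    have h5 : mtx n F q (suScalar q c hcn hcq) = diagonal fun _ => c := coe_suScalar q c hcn hcq
    rw [h5, diagonal_pow] at h4
    have h6 := congrFun (congrFun h4 ⟨0, hn0⟩) ⟨0, hn0⟩
    rw [diagonal_apply_eq, one_apply_eq] at h6
    exact h6
  have h2 : orderOf c ∣ 1 := by
    have h3 : Nat.Coprime (3 ^ k) (Nat.gcd n (q + 1)) :=
      Nat.Coprime.pow_left k ((Nat.Prime.coprime_iff_not_dvd Nat.prime_three).2 hc)
    rw [← h3]
    exact Nat.dvd_gcd (orderOf_dvd_iff_pow_eq_one.2 h1)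
      (Nat.dvd_gcd (orderOf_dvd_iff_pow_eq_one.2 hcn) (orderOf_dvd_iff_pow_eq_one.2 hcq))
  have h3 : c = 1 := orderOf_eq_one_iff.1 (Nat.dvd_one.1 h2)
  subst h3
  apply mtx_injective n q
  rw [map_one]
  exact (coe_suScalar q 1 hcn hcq).trans diagonal_one

/-! ### Numbers -/

/-- the product in the order formula -/
def pr (n q : ℕ) : ℕ := ∏ i ∈ Finset.range n, (if Even i then q ^ (i + 1) + 1 else q ^ (i + 1) - 1)

theorem pr_eq {q : ℕ} (hq : 1 ≤ q) (n : ℕ) :
    (∏ i ∈ Finset.range n, ((-(q : ℤ)) ^ (i + 1) - 1)).natAbs = pr n q := by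
  unfold pr
  induction n with
  | zero => rfl
  | succ n ih =>
    rw [Finset.prod_range_succ, Finset.prod_range_succ, Int.natAbs_mul, ih]
    congr 1
    split_ifs with h
    · rw [h.add_one.neg_pow]
      have : (-(q : ℤ) ^ (n + 1) - 1) = -((q ^ (n + 1) + 1 : ℕ) : ℤ) := by push_cast; ring
      rw [this, Int.natAbs_neg, Int.natAbs_natCast]
    · rw [(Nat.not_even_iff_odd.1 h).add_one.neg_pow]
      have h1 : 1 ≤ q ^ (n + 1) := Nat.one_le_pow _ _ hq
      have : ((q : ℤ) ^ (n + 1) - 1) = ((q ^ (n + 1) - 1 : ℕ) : ℤ) := by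
        rw [Nat.cast_sub h1]; push_cast; ring
      rw [this, Int.natAbs_natCast]

theorem pow_ne {q : ℕ} (hq : 2 ≤ q) (i : ℕ) (hi : i ≠ 0) : (-(q : ℤ)) ^ i ≠ 1 := by
  intro h
  have h1 := congrArg Int.natAbs h
  rw [Int.natAbs_pow, Int.natAbs_neg, Int.natAbs_natCast, Int.natAbs_one] at h1
  have := Nat.one_lt_pow hi (show 1 < q by omega)
  omega

theorem v_plus {q : ℕ} (hq : 2 ≤ q) (h3 : 3 ∣ q + 1) (n : ℕ) :
    (pr n q).factorization 3 = n * (q + 1).factorization 3 + n.factorial.factorization 3 := by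
  have : Fact (Nat.Prime 3) := ⟨Nat.prime_three⟩
  have he : orderOf (((-(q : ℤ) : ℤ)) : ZMod 3) = 1 := by
    rw [orderOf_eq_one_iff]
    have : ((q + 1 : ℕ) : ZMod 3) = 0 := (ZMod.natCast_eq_zero_iff _ _).2 h3
    push_cast at this ⊢
    linear_combination -this
  have h := vp_prod (p := 3) (by norm_num) he (pow_ne hq) n
  unfold vp at h
  rw [pr_eq (by omega)] at h
  rw [h, Nat.div_one, pow_one]
  congr 3
  have : (-(q : ℤ) - 1) = -((q + 1 : ℕ) : ℤ) := by push_cast; ring
  rw [this, Int.natAbs_neg, Int.natAbs_natCast]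

theorem zmod3 : (-1 : ZMod 3) ^ 2 = 1 ∧ (-1 : ZMod 3) ≠ 1 := by decide

theorem v_minus {q : ℕ} (hq : 2 ≤ q) (h3 : 3 ∣ q - 1) (n : ℕ) :
    (pr n q).factorization 3 = (n / 2) * (q - 1).factorization 3 + (n / 2).factorial.factorization 3 := by
  have : Fact (Nat.Prime 3) := ⟨Nat.prime_three⟩
  have hq3 : (q : ZMod 3) = 1 := by
    have : ((q - 1 : ℕ) : ZMod 3) = 0 := (ZMod.natCast_eq_zero_iff _ _).2 h3
    rw [Nat.cast_sub (by omega)] at this
    push_cast at this
    linear_combination this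
  have he : orderOf (((-(q : ℤ) : ℤ)) : ZMod 3) = 2 := by
    rw [orderOf_eq_prime_iff]
    push_cast
    rw [hq3]
    exact zmod3
  have h := vp_prod (p := 3) (by norm_num) he (pow_ne hq) n
  unfold vp at h
  rw [pr_eq (by omega)] at h
  rw [h]
  congr 2
  have h4 : ((-(q : ℤ)) ^ 2 - 1) = (((q - 1) * (q + 1) : ℕ) : ℤ) := by
    rw [Nat.cast_mul, Nat.cast_sub (by omega)]
    push_cast
    ring
  rw [h4, Int.natAbs_natCast, Nat.factorization_mul (by omega) (by omega), Finsupp.add_apply]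
  have h5 : ¬ 3 ∣ q + 1 := by omega
  rw [Nat.factorization_eq_zero_of_not_dvd h5, add_zero]

theorem fac_eq {k j : ℕ} (h1 : 3 ^ j ∣ k) (h2 : ¬ 3 ^ (j + 1) ∣ k) : k.factorization 3 = j := by
  have hk : k ≠ 0 := by rintro rfl; exact h2 (dvd_zero _)
  have h3 := (Nat.prime_three.pow_dvd_iff_le_factorization hk).1 h1
  have h4 := mt (Nat.prime_three.pow_dvd_iff_le_factorization hk).2 h2
  omega

/-- **the order equation** -/
theorem order_eq (hF : Fintype.card F = q ^ 2) (h3 : ¬ 3 ∣ q) {n : ℕ} (hn : 3 ≤ n) (hV : Vn 10 (PSU n F q)) :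
    (Nat.gcd n (q + 1)).factorization 3 + ((q + 1).factorization 3 + 10) = (pr n q).factorization 3 := by
  have h := Cfsg.Agent.S0280.result hF n (by omega)
  have hN := fac_eq hV.1 hV.2
  have hN0 : Nat.card (PSU n F q) ≠ 0 := by
    intro h0
    apply hV.2
    rw [h0]
    exact dvd_zero _
  have hg0 : Nat.gcd n (q + 1) ≠ 0 := Nat.gcd_ne_zero_right (by omega)
  have hq0 : 2 ≤ q := two_le hF
  have hp0 : pr n q ≠ 0 := by
    unfold pr
    refine Finset.prod_ne_zero_iff.2 fun i _ => ?_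
    split_ifs
    · omega
    · have := Nat.one_lt_pow (n := i + 1) (by omega) (show 1 < q by omega)
      omega
  have h2 := congrArg (fun k : ℕ => k.factorization 3) h
  change (Nat.gcd n (q + 1) * ((q + 1) * Nat.card (PSU n F q))).factorization 3 =
    (q ^ (n * (n - 1) / 2) * pr n q).factorization 3 at h2
  rw [Nat.factorization_mul hg0 (mul_ne_zero (by omega) hN0), Nat.factorization_mul (by omega) hN0,
    Nat.factorization_mul (pow_ne_zero _ (by omega)) hp0, Nat.factorization_pow] at h2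
  simp only [Finsupp.add_apply, Finsupp.smul_apply, smul_eq_mul, Nat.factorization_eq_zero_of_not_dvd h3, mul_zero,
    zero_add] at h2
  rw [hN] at h2
  exact h2

theorem fac_dvd {k a : ℕ} (hk : k ≠ 0) (h : a ≤ k.factorization 3) : 3 ^ a ∣ k :=
  (Nat.prime_three.pow_dvd_iff_le_factorization hk).2 h

theorem case_plus {n a : ℕ} (hn : 3 ≤ n) (ha : 1 ≤ a) (ha3 : a ≤ 3)
    (h : min (n.factorization 3) a + (a + 10) = n * a + n.factorial.factorization 3) : n = 4 ∧ a = 3 := by
  have h1 : n.factorization 3 ≤ n.factorial.factorization 3 :=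
    (Nat.factorization_le_iff_dvd (by omega) (Nat.factorial_ne_zero n)).2 (Nat.dvd_factorial (by omega) le_rfl) 3
  have h2 : n ≤ 11 := by
    by_contra hlt
    have h3 : 12 * a ≤ n * a := Nat.mul_le_mul_right _ (by omega)
    have := min_le_left (n.factorization 3) a
    omega
  have v3 : (Nat.factorial 3).factorization 3 = 1 := fac_eq (by decide) (by decide)
  have v4 : (Nat.factorial 4).factorization 3 = 1 := fac_eq (by decide) (by decide)
  have v5 : (Nat.factorial 5).factorization 3 = 1 := fac_eq (by decide) (by decide)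
  have v6 : (Nat.factorial 6).factorization 3 = 2 := fac_eq (by decide) (by decide)
  have v7 : (Nat.factorial 7).factorization 3 = 2 := fac_eq (by decide) (by decide)
  have v8 : (Nat.factorial 8).factorization 3 = 2 := fac_eq (by decide) (by decide)
  have v9 : (Nat.factorial 9).factorization 3 = 4 := fac_eq (by decide) (by decide)
  have v10 : (Nat.factorial 10).factorization 3 = 4 := fac_eq (by decide) (by decide)
  have v11 : (Nat.factorial 11).factorization 3 = 4 := fac_eq (by decide) (by decide)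
  have w3 : (3 : ℕ).factorization 3 = 1 := fac_eq (by decide) (by decide)
  have w4 : (4 : ℕ).factorization 3 = 0 := fac_eq (by decide) (by decide)
  have w5 : (5 : ℕ).factorization 3 = 0 := fac_eq (by decide) (by decide)
  have w6 : (6 : ℕ).factorization 3 = 1 := fac_eq (by decide) (by decide)
  have w7 : (7 : ℕ).factorization 3 = 0 := fac_eq (by decide) (by decide)
  have w8 : (8 : ℕ).factorization 3 = 0 := fac_eq (by decide) (by decide)
  have w9 : (9 : ℕ).factorization 3 = 2 := fac_eq (by decide) (by decide)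
  have w10 : (10 : ℕ).factorization 3 = 0 := fac_eq (by decide) (by decide)
  have w11 : (11 : ℕ).factorization 3 = 0 := fac_eq (by decide) (by decide)
  interval_cases n <;> omega

/-- **The row of `PSU_n(q)`** -/
theorem row_psu {n q : ℕ} (hn : 3 ≤ n) {F : Type} [Field F] [Fintype F] (hF : Fintype.card F = q ^ 2)
    (h3 : (3 : F) ≠ 0) : Cfsg.Agent.H777.Elim.Row (Cfsg.PSU n F q) := by
  intro hV
  have hq2 : 2 ≤ q := two_le hF
  have hq3 : ¬ 3 ∣ q := by
    intro h
    apply h3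
    obtain ⟨ℓ, k, hℓp, hℓ, hk, -⟩ := exists_prime_pow hF
    rw [hk] at h
    have h4 := (Nat.prime_dvd_prime_iff_eq Nat.prime_three hℓp).1 (Nat.prime_three.dvd_of_dvd_pow h)
    have h5 := CharP.cast_eq_zero F ℓ
    rw [← h4] at h5
    exact_mod_cast h5
  have heq := order_eq hF hq3 hn hV
  by_cases hp : 3 ∣ q + 1
  · rw [v_plus hq2 hp] at heq
    set a := (q + 1).factorization 3 with ha
    have ha1 : 1 ≤ a := Nat.prime_three.factorization_pos_of_dvd (by omega) hp
    have hdvd : 3 ^ a ∣ q + 1 := fac_dvd (by omega) le_rfl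
    by_cases ha4 : 4 ≤ a
    · obtain ⟨x, hx⟩ := elt_plus hF (r := 81) ((show 81 ∣ 3 ^ a from pow_dvd_pow 3 ha4).trans hdvd)
      exact big_of_81 hF hn hx
    · rw [Nat.factorization_gcd (by omega) (by omega), Finsupp.inf_apply, ← ha] at heq
      obtain ⟨rfl, ha3⟩ := case_plus hn ha1 (by omega) heq
      rw [ha3] at hdvd
      obtain ⟨x, hx⟩ := elt_plus hF hdvd
      have h1 : AbP (2 * 3) (SU (2 * 2) F q) := abP_even (AbP.of_orderOf hx) 2
      exact Or.inl (abP_psu hF (by norm_num) h1 (fun h => by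
        have := h.trans (Nat.gcd_dvd_left _ _)
        revert this
        decide))
  · have hm : 3 ∣ q - 1 := by omega
    rw [v_minus hq2 hm, Nat.factorization_eq_zero_of_not_dvd hp, Nat.factorization_eq_zero_of_not_dvd
      (fun h => hp (h.trans (Nat.gcd_dvd_right _ _)))] at heq
    set a := (q - 1).factorization 3 with ha
    have ha1 : 1 ≤ a := Nat.prime_three.factorization_pos_of_dvd (by omega) hm
    have hdvd : 3 ^ a ∣ q - 1 := fac_dvd (by omega) le_rfl
    by_cases ha4 : 4 ≤ a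
    · obtain ⟨x, hx⟩ := elt_minus hF (r := 81) ((show 81 ∣ 3 ^ a from pow_dvd_pow 3 ha4).trans hdvd)
      exact big_of_81 hF hn hx
    · obtain ⟨x, hx⟩ := elt_minus hF hdvd
      have h1 : AbP ((n / 2) * a) (SU (2 * (n / 2)) F q) := abP_even (AbP.of_orderOf hx) _
      have h2 := abP_left h1 (n % 2)
      rw [Nat.div_add_mod] at h2
      have h4 : n / 2 ≤ 10 := by
        have : (n / 2) * 1 ≤ (n / 2) * a := Nat.mul_le_mul_left _ ha1
        omega
      have h5 : (n / 2).factorial.factorization 3 ≤ 4 := by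
        have h6 : (Nat.factorial 10).factorization 3 = 4 := fac_eq (by decide) (by decide)
        rw [← h6]
        exact (Nat.factorization_le_iff_dvd (Nat.factorial_ne_zero _) (Nat.factorial_ne_zero _)).2
          (Nat.factorial_dvd_factorial h4) 3
      have h6 : 6 ≤ (n / 2) * a := by omega
      exact Or.inl (abP_psu hF hn (h2.mono h6) (fun h => hp (h.trans (Nat.gcd_dvd_right _ _))))

end Cfsg.Agent.H325.RowPSU
end

-- part: H984/ThreeExc
section
set_option linter.all false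
open scoped Cfsg.Agent.FastGrp

/-!
# Exceptional groups of Lie type with 3-part of the order `3 ^ 10` (helper984, for helper777's S5229, S5231)

`row_exc` : an exceptional group in characteristic different from 3 satisfies `H777.Elim.Row`.
-/

set_option autoImplicit false

namespace Cfsg.Agent.H984.ThreeExc

open Subgroup Cfsg Cfsg.Lie
open Cfsg.Agent.H777.Elim (Vn Big Row)
open Cfsg.Agent.H356.CommSup (comm_sup card_sup)
open Cfsg.Agent.H356.SLTorus (exists_order eq_one_of_center)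

universe u

/-! ### commuting `SL₂` -/

section Generic

variable {G : Type*} [Group G]

/-- a 3-element of `SL₂` whose image commutes with the whole image is trivial -/
theorem eq_one_of_comm {F : Type*} [Field F] (f : Matrix.SpecialLinearGroup (Fin 2) F →* G)
    (hk : ∀ g, f g = 1 → g = 1 ∨ g = -1) {y : Matrix.SpecialLinearGroup (Fin 2) F} {n : ℕ} (hy : y ^ 3 ^ n = 1)
    (hc : ∀ g, f y * f g = f g * f y) : y = 1 := by
  refine eq_one_of_center (mem_center_iff.2 fun g => ?_) hy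
  have h1 : f (y * g * y⁻¹ * g⁻¹) = 1 := by
    rw [map_mul, map_mul, map_mul, hc g, map_inv, map_inv]; group
  rcases hk _ h1 with h | h
  · have h2 : y * g * y⁻¹ * g⁻¹ * (g * y) = 1 * (g * y) := by rw [h]
    have h3 : y * g * y⁻¹ * g⁻¹ * (g * y) = y * g := by group
    rw [← h3, h2, one_mul]
  · have hyg : y * g = -1 * (g * y) := by
      have h2 : y * g * y⁻¹ * g⁻¹ * (g * y) = -1 * (g * y) := by rw [h]
      have h3 : y * g * y⁻¹ * g⁻¹ * (g * y) = y * g := by group
      rw [← h3, h2]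
    have hcz : ∀ x : Matrix.SpecialLinearGroup (Fin 2) F, x * -1 = -1 * x := by
      intro x
      rw [mul_neg, neg_mul, mul_one, one_mul]
    have hpow : ∀ k : ℕ, y ^ k * g = (-1) ^ k * (g * y ^ k) := by
      intro k
      induction k with
      | zero => simp
      | succ k ih =>
        rw [pow_succ', mul_assoc, ih, ← mul_assoc, ← mul_assoc, ← (Commute.pow_left (hcz y).symm k).eq,
          mul_assoc _ y g, hyg, ← mul_assoc, ← pow_succ, mul_assoc, mul_assoc, ← pow_succ']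
    have h4 := hpow (3 ^ n)
    rw [hy, one_mul, mul_one] at h4
    have h5 : (-1 : Matrix.SpecialLinearGroup (Fin 2) F) ^ 3 ^ n = 1 := by
      have := congrArg (· * g⁻¹) h4
      simpa only [_root_.mul_inv_cancel_right, _root_.mul_inv_cancel] using this.symm
    have hodd : Odd (3 ^ n) := Odd.pow (by decide)
    rw [hodd.neg_one_pow] at h5
    rw [hyg, h5, one_mul]

theorem exists_abelian {F : Type*} [Field F] [Finite F] (h3 : (3 : F) ≠ 0) {m : ℕ}
    (hm : 3 ^ m ∣ Nat.card F ^ 2 - 1) : ∀ {n : ℕ} (f : Fin n → Matrix.SpecialLinearGroup (Fin 2) F →* G)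
    (_ : ∀ i g, f i g = 1 → g = 1 ∨ g = -1) (_ : ∀ i j, i ≠ j → ∀ a b, f i a * f j b = f j b * f i a),
    ∃ A : Subgroup G, (∀ x ∈ A, ∀ y ∈ A, x * y = y * x) ∧ Nat.card A = 3 ^ (m * n) ∧ A ≤ ⨆ i, (f i).range
  | 0, _, _, _ => ⟨⊥, by
      intro x hx y hy
      rw [mem_bot] at hx hy
      rw [hx, hy], by simp, bot_le⟩
  | n + 1, f, hk, hc => by
    obtain ⟨A, hA, hcard, hle⟩ := exists_abelian h3 hm (fun i : Fin n => f i.castSucc)
      (fun i => hk i.castSucc) (fun i j hij => hc _ _ (fun h => hij (Fin.castSucc_injective n h)))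
    obtain ⟨y, hy⟩ := exists_order h3 hm
    have hyn : y ^ 3 ^ m = 1 := by rw [← hy, pow_orderOf_eq_one]
    -- elements of `A` commute with the last `SL₂`
    have hAc : ∀ a ∈ A, ∀ g, a * f (Fin.last n) g = f (Fin.last n) g * a := by
      have h1 : (⨆ i : Fin n, (f i.castSucc).range) ≤ centralizer ((f (Fin.last n)).range : Set G) := by
        refine iSup_le fun i => ?_
        rintro _ ⟨a, rfl⟩
        rw [mem_centralizer_iff]
        rintro _ ⟨b, rfl⟩
        exact (hc _ _ (Fin.castSucc_lt_last i).ne a b).symm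
      intro a ha g
      exact (mem_centralizer_iff.1 (h1 (hle ha)) _ ⟨g, rfl⟩).symm
    have hlast : ∀ k : ℤ, (∀ g, f (Fin.last n) (y ^ k) * f (Fin.last n) g = f (Fin.last n) g * f (Fin.last n) (y ^ k)) →
        y ^ k = 1 := by
      intro k hk'
      refine eq_one_of_comm (f (Fin.last n)) (hk _) (n := m) ?_ hk'
      rw [← zpow_natCast, ← zpow_mul, mul_comm, zpow_mul, zpow_natCast, hyn, one_zpow]
    have hord : orderOf (f (Fin.last n) y) = 3 ^ m := by
      apply Nat.dvd_antisymm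
      · rw [← hy]
        exact orderOf_map_dvd _ _
      · rw [← hy]
        apply orderOf_dvd_of_pow_eq_one
        have h1 := hlast (orderOf (f (Fin.last n) y)) (by
          intro g
          rw [map_zpow, zpow_natCast, pow_orderOf_eq_one, one_mul, mul_one])
        rwa [zpow_natCast] at h1
    have hcomm : ∀ a ∈ A, ∀ b ∈ zpowers (f (Fin.last n) y), a * b = b * a := by
      intro a ha b hb
      obtain ⟨k, rfl⟩ := mem_zpowers_iff.1 hb
      rw [← map_zpow]
      exact hAc a ha _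
    have hd : Disjoint A (zpowers (f (Fin.last n) y)) := by
      rw [disjoint_def]
      intro a ha hb
      obtain ⟨k, rfl⟩ := mem_zpowers_iff.1 hb
      rw [← map_zpow] at ha ⊢
      rw [hlast k fun g => hAc _ ha g, map_one]
    refine ⟨A ⊔ zpowers (f (Fin.last n) y), comm_sup hA ?_ hcomm, ?_, sup_le (hle.trans ?_) ?_⟩
    · intro a ha b hb
      obtain ⟨i, rfl⟩ := mem_zpowers_iff.1 ha
      obtain ⟨j, rfl⟩ := mem_zpowers_iff.1 hb
      rw [← zpow_add, ← zpow_add, add_comm]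
    · rw [card_sup hcomm hd, hcard, Nat.card_zpowers, hord, ← pow_add, Nat.mul_succ]
    · exact iSup_le fun i => le_iSup (fun j => (f j).range) i.castSucc
    · rw [zpowers_le]
      exact le_iSup (fun j => (f j).range) (Fin.last n) ⟨y, rfl⟩

theorem big_of_homs {F : Type*} [Field F] [Finite F] (h3 : (3 : F) ≠ 0)
    (hm : 3 ^ 2 ∣ Nat.card F ^ 2 - 1) {n : ℕ} (hn : 3 ≤ n) (f : Fin n → Matrix.SpecialLinearGroup (Fin 2) F →* G)
    (hk : ∀ i g, f i g = 1 → g = 1 ∨ g = -1) (hc : ∀ i j, i ≠ j → ∀ a b, f i a * f j b = f j b * f i a) :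
    Big G := by
  obtain ⟨A, hA, hcard, -⟩ := exists_abelian h3 hm f hk hc
  have : Fact (Nat.Prime 3) := ⟨Nat.prime_three⟩
  refine Or.inl ⟨A, IsPGroup.of_card hcard, hA, ?_⟩
  rw [hcard]
  exact Nat.pow_le_pow_right (by norm_num) (by omega)

end Generic

/-! ### arithmetic -/

section Num

instance fact3 : Fact (Nat.Prime 3) := ⟨Nat.prime_three⟩

theorem val_of_Vn {K : Type*} [Group K] [Finite K] {n : ℕ} (h : Vn n K) : padicValNat 3 (Nat.card K) = n := by
  have h0 : Nat.card K ≠ 0 := Nat.card_pos.ne'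
  have h1 := (padicValNat_dvd_iff_le h0).1 h.1
  have h2 : ¬ (n + 1 ≤ padicValNat 3 (Nat.card K)) := fun h' => h.2 ((padicValNat_dvd_iff_le h0).2 h')
  omega

variable {q : ℕ}

theorem three_dvd (h3 : ¬ 3 ∣ q) : 3 ∣ q ^ 2 - 1 := by
  obtain ⟨k, hk⟩ := Cfsg.Agent.H680.CritD4.three_dvd h3
  exact ⟨k, hk⟩

theorem val_even (hq : 1 < q) (h3 : ¬ 3 ∣ q) {k : ℕ} (hk : k ≠ 0) :
    padicValNat 3 (q ^ (2 * k) - 1) = padicValNat 3 (q ^ 2 - 1) + padicValNat 3 k := by
  have h := padicValNat.pow_sub_pow (p := 3) (by decide) (x := q ^ 2) (y := 1)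
    (Nat.one_lt_pow two_ne_zero hq) (three_dvd h3) (fun h => h3 (Nat.prime_three.dvd_of_dvd_pow h)) hk
  rwa [one_pow, ← pow_mul] at h

theorem ne_zero {k : ℕ} (hq : 1 < q) (hk : k ≠ 0) : q ^ k - 1 ≠ 0 := by
  have := Nat.one_lt_pow hk hq
  omega

theorem val_pow (h3 : ¬ 3 ∣ q) (k : ℕ) : padicValNat 3 (q ^ k) = 0 :=
  padicValNat.eq_zero_of_not_dvd fun h => h3 (Nat.prime_three.dvd_of_dvd_pow h)

theorem val_1 : padicValNat 3 1 = 0 := padicValNat_one_right 3
theorem val_2 : padicValNat 3 2 = 0 := padicValNat.eq_zero_of_not_dvd (by decide)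
theorem val_3 : padicValNat 3 3 = 1 := padicValNat.self (by norm_num)
theorem val_4 : padicValNat 3 4 = 0 := padicValNat.eq_zero_of_not_dvd (by decide)
theorem val_5 : padicValNat 3 5 = 0 := padicValNat.eq_zero_of_not_dvd (by decide)
theorem val_6 : padicValNat 3 6 = 1 := by
  rw [show 6 = 3 * 2 by norm_num, padicValNat.mul (by norm_num) (by norm_num), val_3, val_2]
theorem val_7 : padicValNat 3 7 = 0 := padicValNat.eq_zero_of_not_dvd (by decide)
theorem val_9 : padicValNat 3 9 = 2 := by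
  rw [show 9 = 3 * 3 by norm_num, padicValNat.mul (by norm_num) (by norm_num), val_3]
theorem val_10 : padicValNat 3 10 = 0 := padicValNat.eq_zero_of_not_dvd (by decide)
theorem val_12 : padicValNat 3 12 = 1 := by
  rw [show 12 = 3 * 4 by norm_num, padicValNat.mul (by norm_num) (by norm_num), val_3, val_4]
theorem val_15 : padicValNat 3 15 = 1 := by
  rw [show 15 = 3 * 5 by norm_num, padicValNat.mul (by norm_num) (by norm_num), val_3, val_5]

theorem one_le_val (hq : 1 < q) (h3 : ¬ 3 ∣ q) : 1 ≤ padicValNat 3 (q ^ 2 - 1) :=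
  one_le_padicValNat_of_dvd (ne_zero hq two_ne_zero) (three_dvd h3)

/-- `q ≡ 1 mod 3` -/
theorem val_one (hq : 1 < q) (h1 : q % 3 = 1) {k : ℕ} (hk : k ≠ 0) :
    padicValNat 3 (q ^ k - 1) = padicValNat 3 (q ^ 2 - 1) + padicValNat 3 k := by
  have h3 : ¬ 3 ∣ q := by omega
  have hd : 3 ∣ q - 1 := by omega
  have h := padicValNat.pow_sub_pow (p := 3) (by decide) (x := q) (y := 1) hq hd h3 hk
  have h' := padicValNat.pow_sub_pow (p := 3) (by decide) (x := q) (y := 1) hq hd h3 (two_ne_zero)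
  rw [one_pow] at h h'
  rw [h, h', val_2, add_zero]

/-- `q ≡ 2 mod 3` -/
theorem val_two (hq : 1 < q) (h2 : q % 3 = 2) {k : ℕ} (hk : Odd k) :
    padicValNat 3 (q ^ k + 1) = padicValNat 3 (q ^ 2 - 1) + padicValNat 3 k := by
  have h3 : ¬ 3 ∣ q := by omega
  have hd : 3 ∣ q + 1 := by omega
  have h := padicValNat.pow_add_pow (p := 3) (by decide) (x := q) (y := 1) hd h3 hk
  rw [one_pow] at h
  have h' : padicValNat 3 (q ^ 2 - 1) = padicValNat 3 (q + 1) := by
    have e : q ^ 2 - 1 = (q + 1) * (q - 1) := by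
      have := Nat.sq_sub_sq q 1
      rwa [one_pow] at this
    rw [e, padicValNat.mul (by omega) (by omega), padicValNat.eq_zero_of_not_dvd (n := q - 1) (by omega), add_zero]
  rw [h, h']

theorem pow_mod_two (h2 : q % 3 = 2) {k : ℕ} (hk : Odd k) : q ^ k % 3 = 2 := by
  obtain ⟨j, rfl⟩ := hk
  rw [pow_succ, pow_mul, Nat.mul_mod, Nat.pow_mod, Nat.pow_mod q 2, h2]
  norm_num

theorem pow_mod_one (h1 : q % 3 = 1) (k : ℕ) : q ^ k % 3 = 1 := by
  rw [Nat.pow_mod, h1, one_pow, Nat.one_mod]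

/-- `q ≡ 2 mod 3`, `k` odd: `q ^ k - 1` is prime to 3 -/
theorem val_sub_zero (h2 : q % 3 = 2) {k : ℕ} (hk : Odd k) : padicValNat 3 (q ^ k - 1) = 0 := by
  apply padicValNat.eq_zero_of_not_dvd
  have := pow_mod_two h2 hk
  omega

/-- `q ≡ 1 mod 3`: `q ^ k + 1` is prime to 3 -/
theorem val_add_zero (h1 : q % 3 = 1) (k : ℕ) : padicValNat 3 (q ^ k + 1) = 0 := by
  apply padicValNat.eq_zero_of_not_dvd
  have := pow_mod_one h1 k
  omega

/-- the 3-part of `n` is `3 ^ k` -/
def HV (n k : ℕ) : Prop := n ≠ 0 ∧ padicValNat 3 n = k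

theorem HV.mul {n m k l : ℕ} (h : HV n k) (h' : HV m l) : HV (n * m) (k + l) :=
  ⟨mul_ne_zero h.1 h'.1, by rw [padicValNat.mul h.1 h'.1, h.2, h'.2]⟩

theorem hv_pow (hq : 1 < q) (h3 : ¬ 3 ∣ q) (k : ℕ) : HV (q ^ k) 0 := ⟨by positivity, val_pow h3 k⟩

theorem hv_even (hq : 1 < q) (h3 : ¬ 3 ∣ q) (k n l : ℕ) (hk : k ≠ 0) (hn : n = 2 * k) (hl : padicValNat 3 k = l) :
    HV (q ^ n - 1) (padicValNat 3 (q ^ 2 - 1) + l) := by
  subst hn
  subst hl
  exact ⟨ne_zero hq (by omega), val_even hq h3 hk⟩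

theorem dvd_of_val (hq : 1 < q) {k : ℕ} (h : k ≤ padicValNat 3 (q ^ 2 - 1)) : 3 ^ k ∣ q ^ 2 - 1 :=
  (padicValNat_dvd_iff_le (ne_zero hq two_ne_zero)).2 h

end Num

/-! ### the groups -/

section Groups

open Cfsg.Agent.ChevalleyStructure Cfsg.Agent.ChevalleyStructure.Elts Cfsg.Agent.H92.ExcSL2

variable {F : Type*} [Field F] [Fintype F]

theorem not_dvd_card (h3 : (3 : F) ≠ 0) : ¬ 3 ∣ Fintype.card F := by
  intro h
  obtain ⟨p, hp⟩ := CharP.exists F
  obtain ⟨k, hpr, hk⟩ := FiniteField.card F p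
  rw [hk] at h
  have h4 := (Nat.prime_dvd_prime_iff_eq Nat.prime_three hpr).1 (Nat.prime_three.dvd_of_dvd_pow h)
  apply h3
  have h5 := CharP.cast_eq_zero F p
  rw [← h4] at h5
  exact_mod_cast h5

theorem big_chev {D : ChevalleyDatum} (hD : InList D) (h3 : (3 : F) ≠ 0) (hm : 3 ^ 2 ∣ Nat.card F ^ 2 - 1)
    (l : Fin 4 → ℕ) (hl : ∀ i, l i < D.nroots) (ho : ∀ i j, i ≠ j → Orth4 D (l i) (l j) = true) :
    Big ↥(D.group F) :=
  big_of_homs h3 hm (by norm_num) (fun i => ph hD (hl i)) (fun i _ h => ph_eq_one hD (hl i) h)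
    fun i j hij a b => (ph_commute hD (hl i) (hl j) (ho i j hij) a b).eq

theorem row_G2 (h3 : (3 : F) ≠ 0) : Row ↥(chevG2.group F) := by
  intro hV
  exfalso
  have hv := val_of_Vn hV
  have hq : 1 < Fintype.card F := Fintype.one_lt_card
  have hd := not_dvd_card h3
  rw [Cfsg.Agent.S1059.result (F := F) rfl] at hv
  have h := ((hv_pow hq hd 6).mul (hv_even hq hd 1 2 0 one_ne_zero rfl val_1)).mul
    (hv_even hq hd 3 6 1 (by norm_num) rfl val_3)
  have := h.2
  omega

theorem row_F4 (h3 : (3 : F) ≠ 0) : Row ↥(chevF4.group F) := by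
  intro hV
  have hv := val_of_Vn hV
  have hq : 1 < Fintype.card F := Fintype.one_lt_card
  have hd := not_dvd_card h3
  rw [Cfsg.Agent.S1062.result (F := F) rfl] at hv
  have h := ((((hv_pow hq hd 24).mul (hv_even hq hd 1 2 0 one_ne_zero rfl val_1)).mul
    (hv_even hq hd 3 6 1 (by norm_num) rfl val_3)).mul (hv_even hq hd 4 8 0 (by norm_num) rfl val_4)).mul
    (hv_even hq hd 6 12 1 (by norm_num) rfl val_6)
  have h2 := h.2
  refine big_chev (by simp) h3 ?_ ![26, 31, 42, 46] (by decide +kernel) (by decide +kernel)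
  rw [Nat.card_eq_fintype_card]
  exact dvd_of_val hq (by omega)

theorem gcd_three {n : ℕ} : Nat.gcd 3 n = if n % 3 = 0 then 3 else 1 := by
  split_ifs with h
  · exact Nat.gcd_eq_left (Nat.dvd_of_mod_eq_zero h)
  · exact (Nat.Prime.coprime_iff_not_dvd Nat.prime_three).2 fun h' => h (Nat.mod_eq_zero_of_dvd h')

theorem row_E6 (h3 : (3 : F) ≠ 0) : Row ↥(chevE6.group F) := by
  intro hV
  have hv := val_of_Vn hV
  have hq : 1 < Fintype.card F := Fintype.one_lt_card
  have hd := not_dvd_card h3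
  have hN : HV (Nat.card ↥(chevE6.group F)) 10 := ⟨Nat.card_pos.ne', hv⟩
  have hc := Cfsg.Agent.S1063.result (F := F) rfl
  have hm : Fintype.card F % 3 = 1 ∨ Fintype.card F % 3 = 2 := by omega
  rcases hm with hm | hm
  · exfalso
    rw [gcd_three, if_pos (by omega)] at hc
    have h1 : HV (3 * Nat.card ↥(chevE6.group F)) (1 + 10) := HV.mul ⟨by norm_num, val_3⟩ hN
    have h := ((((((hv_pow hq hd 36).mul (hv_even hq hd 1 2 0 one_ne_zero rfl val_1)).mul
      (⟨ne_zero hq (by norm_num), by rw [val_one hq hm (by norm_num), val_5]⟩ :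
        HV (Fintype.card F ^ 5 - 1) (padicValNat 3 (Fintype.card F ^ 2 - 1) + 0))).mul
      (hv_even hq hd 3 6 1 (by norm_num) rfl val_3)).mul (hv_even hq hd 4 8 0 (by norm_num) rfl val_4)).mul
      (⟨ne_zero hq (by norm_num), by rw [val_one hq hm (by norm_num), val_9]⟩ :
        HV (Fintype.card F ^ 9 - 1) (padicValNat 3 (Fintype.card F ^ 2 - 1) + 2))).mul
      (hv_even hq hd 6 12 1 (by norm_num) rfl val_6)
    rw [hc] at h1
    have h2 := h.2
    have h3 := h1.2
    omega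
  · rw [gcd_three, if_neg (by omega), one_mul] at hc
    have h1 := hN
    have h := ((((((hv_pow hq hd 36).mul (hv_even hq hd 1 2 0 one_ne_zero rfl val_1)).mul
      (⟨ne_zero hq (by norm_num), val_sub_zero hm (by decide)⟩ : HV (Fintype.card F ^ 5 - 1) 0)).mul
      (hv_even hq hd 3 6 1 (by norm_num) rfl val_3)).mul (hv_even hq hd 4 8 0 (by norm_num) rfl val_4)).mul
      (⟨ne_zero hq (by norm_num), val_sub_zero hm (by decide)⟩ : HV (Fintype.card F ^ 9 - 1) 0)).mul
      (hv_even hq hd 6 12 1 (by norm_num) rfl val_6)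
    rw [hc] at h1
    have h2 := h.2
    have h3' := h1.2
    refine big_chev (by simp) h3 ?_ ![39, 44, 60, 71] (by decide +kernel) (by decide +kernel)
    rw [Nat.card_eq_fintype_card]
    exact dvd_of_val hq (by omega)

theorem row_E7 (h3 : (3 : F) ≠ 0) : Row ↥(chevE7.group F) := by
  intro hV
  exfalso
  have hv := val_of_Vn hV
  have hq : 1 < Fintype.card F := Fintype.one_lt_card
  have hd := not_dvd_card h3
  have hN : HV (Nat.card ↥(chevE7.group F)) 10 := ⟨Nat.card_pos.ne', hv⟩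
  have hc := Cfsg.Agent.S1064.result (F := F) rfl
  have hg0 : HV (Nat.gcd 2 (Fintype.card F - 1)) 0 := by
    have h2 : Nat.gcd 2 (Fintype.card F - 1) = 1 ∨ Nat.gcd 2 (Fintype.card F - 1) = 2 :=
      (Nat.dvd_prime Nat.prime_two).1 (Nat.gcd_dvd_left _ _)
    rcases h2 with h2 | h2
    · rw [h2]; exact ⟨one_ne_zero, val_1⟩
    · rw [h2]; exact ⟨two_ne_zero, val_2⟩
  have h := (((((((hv_pow hq hd 63).mul (hv_even hq hd 1 2 0 one_ne_zero rfl val_1)).mul
    (hv_even hq hd 3 6 1 (by norm_num) rfl val_3)).mul (hv_even hq hd 4 8 0 (by norm_num) rfl val_4)).mul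
    (hv_even hq hd 5 10 0 (by norm_num) rfl val_5)).mul (hv_even hq hd 6 12 1 (by norm_num) rfl val_6)).mul
    (hv_even hq hd 7 14 0 (by norm_num) rfl val_7)).mul (hv_even hq hd 9 18 2 (by norm_num) rfl val_9)
  have h1 := hg0.mul hN
  rw [hc] at h1
  have h2 := h.2
  have h3 := h1.2
  have h4 := one_le_val hq hd
  omega

theorem row_E8 (h3 : (3 : F) ≠ 0) : Row ↥(chevE8.group F) := by
  intro hV
  exfalso
  have hv := val_of_Vn hV
  have hq : 1 < Fintype.card F := Fintype.one_lt_card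
  have hd := not_dvd_card h3
  rw [Cfsg.Agent.S1065.result (F := F) rfl] at hv
  have h := ((((((((hv_pow hq hd 120).mul (hv_even hq hd 1 2 0 one_ne_zero rfl val_1)).mul
    (hv_even hq hd 4 8 0 (by norm_num) rfl val_4)).mul (hv_even hq hd 6 12 1 (by norm_num) rfl val_6)).mul
    (hv_even hq hd 7 14 0 (by norm_num) rfl val_7)).mul (hv_even hq hd 9 18 2 (by norm_num) rfl val_9)).mul
    (hv_even hq hd 10 20 0 (by norm_num) rfl val_10)).mul (hv_even hq hd 12 24 1 (by norm_num) rfl val_12)).mul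
    (hv_even hq hd 15 30 1 (by norm_num) rfl val_15)
  have h2 := h.2
  have h4 := one_le_val hq hd
  omega

/-- the order of the fixed field is prime to 3 -/
theorem not_dvd_of_card {q n : ℕ} (hF : Fintype.card F = q ^ n) (hn : n ≠ 0) (h3 : (3 : F) ≠ 0) : ¬ 3 ∣ q := by
  intro h
  apply not_dvd_card h3
  rw [hF]
  exact dvd_pow h hn

end Groups

section TwE6

open Cfsg.Agent.ChevalleyStructure Cfsg.Agent.ChevalleyStructure.Elts Cfsg.Agent.H92.ExcSL2
open Cfsg.Agent.H680.CritGExc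

theorem big_twE6 {K : Type*} [Field K] [Fintype K] {q : ℕ} (hq : IsPrimePow q) (hK : Fintype.card K = q ^ 2)
    (h3 : (3 : K) ≠ 0) (hm : 3 ^ 2 ∣ q ^ 2 - 1) : Big ↥(twistedE6 K q) := by
  obtain ⟨φ, hφ, hqq⟩ := TwE6Basic.exists_frob hq hK
  obtain ⟨p, n, hp, hn, hqp⟩ := (isPrimePow_nat_iff q).1 hq
  obtain ⟨P, _, _, c, hP, -, -, -⟩ := Cfsg.Agent.ONan.PairCoord.exists_subfield (F := K) hp hn hqp.symm hK
  have hcc : ∀ t, φ (c t) = c t := by
    intro t
    rw [hφ, ← map_pow, ← hP, FiniteField.pow_card]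
  have hP3 : (3 : P) ≠ 0 := by
    intro h
    apply h3
    have h1 := congrArg c h
    rw [map_zero, map_ofNat] at h1
    exact h1
  refine big_of_homs (F := P) hP3 (by rw [Nat.card_eq_fintype_card, hP]; exact hm) (n := 4) (by norm_num) (fun i =>
    ((SL2Hom.phi (SL2All.good_of_mem chevE6 Nodes.RGDTwE6.hp.inList _ (four_lt i)) K).comp
      (Matrix.SpecialLinearGroup.map c)).codRestrict (twistedE6 K q) (fun g => phi_mem hφ hqq c hcc (four_lt i)
        (four_cl i) (four_dl i) (four_neg_lt i) (four_neg_cl i) (four_neg_dl i) g)) ?_ ?_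
  · intro i g h
    have h1 := congrArg Subtype.val h
    change SL2Hom.phi (SL2All.good_of_mem chevE6 Nodes.RGDTwE6.hp.inList _ (four_lt i)) K
      (Matrix.SpecialLinearGroup.map c g) = 1 at h1
    have h2 : ph Nodes.RGDTwE6.hp.inList (four_lt i) (Matrix.SpecialLinearGroup.map c g) = 1 := Subtype.ext h1
    have hinj : Function.Injective (Matrix.SpecialLinearGroup.map (n := Fin 2) c) := by
      intro a b hab
      apply Subtype.ext
      ext i j
      have := congrFun (congrFun (congrArg Subtype.val hab) i) j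
      exact c.injective this
    rcases ph_eq_one Nodes.RGDTwE6.hp.inList (four_lt i) h2 with h | h
    · left
      apply hinj
      rw [h, map_one]
    · right
      apply hinj
      rw [h]
      apply Subtype.ext
      ext i j
      (revert i j; simp only [_root_.Fin.forall_fin_succ, _root_.Matrix.SpecialLinearGroup.coe_neg, _root_.Matrix.SpecialLinearGroup.coe_one, _root_.Matrix.neg_apply, _root_.Matrix.SpecialLinearGroup.map_apply_coe, _root_.RingHom.mapMatrix_apply, _root_.Matrix.map_apply, _root_.map_neg, _root_.neg_inj, _root_.IsEmpty.forall_iff, _root_.and_true, _root_.Matrix.one_apply_eq, _root_.map_one, Nat.reduceAdd, Fin.isValue, _root_.Fin.succ_zero_eq_one, _root_.ne_eq, _root_.zero_ne_one, _root_.not_false_eq_true, _root_.Matrix.one_apply_ne, _root_.map_zero, _root_.and_self, _root_.Fin.succ_ne_zero, _root_.true_and])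
  · intro i j hij a b
    apply Subtype.ext
    exact (phi_commute Nodes.RGDTwE6.hp.inList (four_lt i) (four_lt j) (four_orth i j hij) _ _).eq

theorem row_twE6 {K : Type*} [Field K] [Fintype K] {q : ℕ} (hq : IsPrimePow q) (hK : Fintype.card K = q ^ 2)
    (h3 : (3 : K) ≠ 0) : Row ↥(twistedE6 K q) := by
  intro hV
  have hv := val_of_Vn hV
  have hq1 : 1 < q := hq.one_lt
  have hd := not_dvd_of_card hK two_ne_zero h3
  have hN : HV (Nat.card ↥(twistedE6 K q)) 10 := ⟨Nat.card_pos.ne', hv⟩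
  have hc := Cfsg.Agent.S1066.result hq hK
  have hm : q % 3 = 1 ∨ q % 3 = 2 := by omega
  rcases hm with hm | hm
  · rw [gcd_three, if_neg (by omega), one_mul] at hc
    have h1 := hN
    have h := ((((((hv_pow hq1 hd 36).mul (hv_even hq1 hd 1 2 0 one_ne_zero rfl val_1)).mul
      (⟨by omega, val_add_zero hm _⟩ : HV (q ^ 5 + 1) 0)).mul
      (hv_even hq1 hd 3 6 1 (by norm_num) rfl val_3)).mul (hv_even hq1 hd 4 8 0 (by norm_num) rfl val_4)).mul
      (⟨by omega, val_add_zero hm _⟩ : HV (q ^ 9 + 1) 0)).mul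
      (hv_even hq1 hd 6 12 1 (by norm_num) rfl val_6)
    rw [hc] at h1
    have h2 := h.2
    have h3' := h1.2
    exact big_twE6 hq hK h3 (dvd_of_val hq1 (by omega))
  · exfalso
    rw [gcd_three, if_pos (by omega)] at hc
    have h1 : HV (3 * Nat.card ↥(twistedE6 K q)) (1 + 10) := HV.mul ⟨by norm_num, val_3⟩ hN
    have h := ((((((hv_pow hq1 hd 36).mul (hv_even hq1 hd 1 2 0 one_ne_zero rfl val_1)).mul
      (⟨by omega, by rw [val_two hq1 hm (by decide), val_5]⟩ : HV (q ^ 5 + 1) (padicValNat 3 (q ^ 2 - 1) + 0))).mul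
      (hv_even hq1 hd 3 6 1 (by norm_num) rfl val_3)).mul (hv_even hq1 hd 4 8 0 (by norm_num) rfl val_4)).mul
      (⟨by omega, by rw [val_two hq1 hm (by decide), val_9]⟩ : HV (q ^ 9 + 1) (padicValNat 3 (q ^ 2 - 1) + 2))).mul
      (hv_even hq1 hd 6 12 1 (by norm_num) rfl val_6)
    rw [hc] at h1
    have h2 := h.2
    have h3' := h1.2
    omega

end TwE6

/-! ### `³D₄(q)`, `Sz(q)`, `²F₄(q)` -/

theorem row_twD4 {K : Type*} [Field K] [Fintype K] {q : ℕ} (hq : IsPrimePow q) (hK : Fintype.card K = q ^ 3)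
    (h3 : (3 : K) ≠ 0) : Row ↥(twistedD4 K q) := by
  intro hV
  have hv := val_of_Vn hV
  have hq1 : 1 < q := hq.one_lt
  have hd := not_dvd_of_card hK three_ne_zero h3
  obtain ⟨k, hk⟩ := three_dvd hd
  have h8 : HV (q ^ 8 + q ^ 4 + 1) 1 := by
    have e2 : q ^ 2 = 3 * k + 1 := by
      have := Nat.one_lt_pow two_ne_zero hq1
      omega
    have e8 : q ^ 8 + q ^ 4 + 1 = 3 * (3 * (9 * k ^ 4 + 12 * k ^ 3 + 7 * k ^ 2 + 2 * k) + 1) := by
      have h1 : q ^ 8 + q ^ 4 + 1 = (3 * k + 1) ^ 4 + (3 * k + 1) ^ 2 + 1 := by rw [← e2]; ring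
      rw [h1]; ring
    rw [e8]
    exact HV.mul (k := 1) (l := 0) ⟨by norm_num, val_3⟩ ⟨by omega, padicValNat.eq_zero_of_not_dvd (by omega)⟩
  have h := (((hv_pow hq1 hd 12).mul (hv_even hq1 hd 1 2 0 one_ne_zero rfl val_1)).mul
    (hv_even hq1 hd 3 6 1 (by norm_num) rfl val_3)).mul h8
  rw [Cfsg.Agent.S1067.result hq hK] at hv
  have h2 := h.2
  obtain ⟨φ, hφ⟩ := Cfsg.Agent.ChevalleyStructure.D4Fixed.exists_frob hq hK
  have h6 := (hv_even hq1 hd 3 6 1 (by norm_num) rfl val_3)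
  obtain ⟨A, -, -, a, -, ho⟩ := Cfsg.Agent.H356.SLTorus.exists_one (n := 4) h3
    (by
      rw [Nat.card_eq_fintype_card, hK, ← pow_mul]
      exact (padicValNat_dvd_iff_le h6.1).2 (by rw [h6.2]; omega))
    (MonoidHom.id ↥(twistedD4 K q)) (by
      rw [MonoidHom.ker_id]
      exact bot_le)
    ((Cit.HexD4.pb0 φ).codRestrict (twistedD4 K q) (Cit.HexD4.pb0_mem hφ)) (by
      intro g h e
      exact Cfsg.Agent.H680.CritD4.pb0_injective φ (congrArg Subtype.val e))
  exact Or.inr ⟨a, ho⟩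

theorem row_twF4 {F : Type*} [Field F] [Fintype F] {m : ℕ} (hK : Fintype.card F = 2 ^ (2 * m + 1)) :
    Row ↥(twistedF4 F (2 ^ m)) := by
  intro hV
  exfalso
  have hv := val_of_Vn hV
  obtain ⟨j, hj⟩ := Cfsg.Agent.H680.CritExc.two_pow_odd m
  rw [Cfsg.Agent.S1068.result hK] at hv
  have hq1 : 1 < 2 ^ (2 * m + 1) := Nat.one_lt_pow (by omega) (by norm_num)
  generalize 2 ^ (2 * m + 1) = q at *
  have hd : ¬ 3 ∣ q := by omega
  have hm : q % 3 = 2 := by omega
  have h := ((((hv_pow hq1 hd 12).mul (⟨by omega, padicValNat.eq_zero_of_not_dvd (by omega)⟩ : HV (q - 1) 0)).mul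
    (⟨by omega, by rw [val_two hq1 hm (by decide), val_3]⟩ : HV (q ^ 3 + 1) (padicValNat 3 (q ^ 2 - 1) + 1))).mul
    (hv_even hq1 hd 2 4 0 (by norm_num) rfl val_2)).mul
    (⟨by omega, by
      apply padicValNat.eq_zero_of_not_dvd
      have : q ^ 6 % 3 = 1 := by
        rw [Nat.pow_mod, hm]
      omega⟩ : HV (q ^ 6 + 1) 0)
  have h2 := h.2
  omega

/-! ### all -/

end Cfsg.Agent.H984.ThreeExc
end
end
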